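import Groth.Agent.Books.ComodSocle
import Groth.Agent.Fdesc.GeomRed
import Mathlib.LinearAlgebra.TensorProduct.RightExactness
import Mathlib.RingTheory.HopfAlgebra.Basic
import Mathlib.RingTheory.FiniteType

/-!
# Unipotent Hopf algebras over a perfect field without nilpotent primitive elements are reduced

`isReduced_of_prim`: for a unipotent commutative bialgebra `C` over a perfect field, if every
nilpotent primitive element is zero then `C` is reduced.
-/

set_option autoImplicit false

universe u v w

open TensorProduct HopfRep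
open Groth.Agent.Books.ComodDual Groth.Agent.Books.ComodSocle

namespace K922.UnipRed

section aux

variable {k : Type u} {C : Type u} [Field k] [CommRing C] [Bialgebra k C]

/-- `Δ x - x ⊗ 1` lies in `soc n ⊗ C` for `x` in `soc (n + 1)`. -/
lemma exists_lift {n : ℕ} {x : C} (hx : x ∈ soc k C C (n + 1)) :
    ∃ z : soc k C C n ⊗[k] C, (soc k C C n).subtype.rTensor C z =
      CoalgebraStruct.comul (R := k) x - x ⊗ₜ 1 := by
  refine LinearMap.mem_range.mp ((mem_range_rTensor_iff _ _).mpr fun g => ?_)
  have h0 : contr (g - g 1 • CoalgebraStruct.counit (R := k))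
      (CoalgebraStruct.comul (R := k) (A := C) x) =
      contr g (CoalgebraStruct.comul (R := k) x - x ⊗ₜ 1) := by
    have h2 : contr (CoalgebraStruct.counit (R := k)) (CoalgebraStruct.comul (R := k) (A := C) x) = x := by
      rw [contr, LinearMap.comp_apply, Coalgebra.lTensor_counit_comul]
      simp
    have h3 := contr_add (g - g 1 • CoalgebraStruct.counit (R := k)) (g 1 • CoalgebraStruct.counit (R := k))
      (CoalgebraStruct.comul (R := k) (A := C) x)
    rw [sub_add_cancel, contr_smul, h2] at h3
    rw [map_sub, h3, contr_tmul, add_sub_cancel_right]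
  rw [← h0]
  exact mem_soc_succ.mp hx _ (by simp)

lemma eq_of_ract (x : C) (z : C ⊗[k] C)
    (h : ∀ f : C →ₗ[k] k, ract f x = TensorProduct.lid k C (f.rTensor C z)) :
    CoalgebraStruct.comul (R := k) x = z := by
  apply (TensorProduct.comm k C C).injective
  apply eq_of_contr
  intro f
  have h1 : ∀ y : C ⊗[k] C, contr f (TensorProduct.comm k C C y) =
      TensorProduct.lid k C (f.rTensor C y) := by
    intro y
    induction y with
    | zero => simp
    | add a b ha hb => simp only [map_add, ha, hb]
    | tmul a b => simp
  rw [h1, h1, ← h f]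
  rfl

variable (k C) in
/-- Over a perfect field the nilradical is a coideal. -/
lemma map_mk_comul [PerfectField k] (x : C) (hx : IsNilpotent x) :
    TensorProduct.map (Ideal.Quotient.mkₐ k (nilradical C)).toLinearMap
      (Ideal.Quotient.mkₐ k (nilradical C)).toLinearMap (CoalgebraStruct.comul (R := k) x) = 0 := by
  have : IsReduced (C ⧸ nilradical C) :=
    (Ideal.isRadical_iff_quotient_reduced _).mp (Ideal.radical_isRadical _)
  have : IsReduced ((C ⧸ nilradical C) ⊗[k] (C ⧸ nilradical C)) :=
    Groth.Agent.Fdesc.GeomRed.isReduced_tensor_of_perfectField _ _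
  have h1 : IsNilpotent (Algebra.TensorProduct.map (Ideal.Quotient.mkₐ k (nilradical C))
      (Ideal.Quotient.mkₐ k (nilradical C)) (Bialgebra.comulAlgHom k C x)) :=
    (hx.map (Bialgebra.comulAlgHom k C)).map _
  exact h1.eq_zero

lemma key [PerfectField k] {n : ℕ} (ih : ∀ y ∈ soc k C C n, IsNilpotent y → y = 0)
    {x : C} (hx : x ∈ soc k C C (n + 1)) (hn : IsNilpotent x) (f : C →ₗ[k] k) :
    IsNilpotent (ract f x - f x • (1 : C)) := by
  obtain ⟨z, hz⟩ := exists_lift hx
  set ρ : C →ₗ[k] C ⧸ nilradical C := (Ideal.Quotient.mkₐ k (nilradical C)).toLinearMap with hρ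
  have hρ0 : ∀ y : C, ρ y = 0 ↔ IsNilpotent y := fun y =>
    (Ideal.Quotient.eq_zero_iff_mem (I := nilradical C)).trans mem_nilradical
  have hinj : LinearMap.ker (ρ ∘ₗ (soc k C C n).subtype) = ⊥ := by
    rw [LinearMap.ker_eq_bot']
    intro y hy
    exact Subtype.ext (ih _ y.2 ((hρ0 _).mp hy))
  obtain ⟨σ, hσ⟩ := LinearMap.exists_leftInverse_of_injective _ hinj
  have h1 : TensorProduct.map ρ ρ ((soc k C C n).subtype.rTensor C z) = 0 := by
    rw [hz, map_sub, map_mk_comul k C x hn, TensorProduct.map_tmul, (hρ0 x).mpr hn,
      TensorProduct.zero_tmul, sub_zero]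
  have h2 : LinearMap.lTensor (soc k C C n) ρ z = 0 := by
    have h3 := congrArg (LinearMap.rTensor (C ⧸ nilradical C) σ) h1
    rw [map_zero] at h3
    rw [← h3]
    change _ = (LinearMap.rTensor (C ⧸ nilradical C) σ) ((TensorProduct.map ρ ρ)
      (LinearMap.rTensor C (soc k C C n).subtype z))
    clear h3 h1 hz
    induction z with
    | zero => simp
    | add a b ha hb => simp only [map_add, ← ha, ← hb]
    | tmul a b =>
      have h4 : σ (ρ ((soc k C C n).subtype a)) = a := LinearMap.congr_fun hσ a
      simp only [LinearMap.lTensor_tmul, LinearMap.rTensor_tmul, TensorProduct.map_tmul, h4]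
  rw [← hρ0]
  have h5 : ract f x - f x • (1 : C) =
      TensorProduct.lid k C (f.rTensor C ((soc k C C n).subtype.rTensor C z)) := by
    rw [hz, map_sub, map_sub]
    simp [ract]
  rw [h5]
  have h6 : ∀ z : soc k C C n ⊗[k] C,
      ρ (TensorProduct.lid k C (f.rTensor C ((soc k C C n).subtype.rTensor C z))) =
      TensorProduct.lid k _ ((f ∘ₗ (soc k C C n).subtype).rTensor _
        (LinearMap.lTensor (soc k C C n) ρ z)) := by
    intro z
    induction z with
    | zero => simp
    | add a b ha hb => simp only [map_add, ha, hb]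
    | tmul a b => simp
  rw [h6, h2, map_zero, map_zero]

end aux

/-- A unipotent bialgebra over a perfect field in which nilpotent primitive elements vanish is
reduced. -/
theorem isReduced_of_prim' (k : Type u) [Field k] [PerfectField k] (C : Type u) [CommRing C]
    [Bialgebra k C] (hU : HopfRep.IsUnipotent k C)
    (h : ∀ f : C, CoalgebraStruct.comul (R := k) f = f ⊗ₜ[k] 1 + 1 ⊗ₜ[k] f → IsNilpotent f → f = 0) :
    IsReduced C := by
  have main : ∀ n, ∀ x ∈ soc k C C n, IsNilpotent x → x = 0 := by
    intro n
    induction n with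
    | zero => intro x hx _; simpa using hx
    | succ n ih =>
      intro x hx hn
      have hε : CoalgebraStruct.counit (R := k) x = 0 :=
        (hn.map (Bialgebra.counitAlgHom k C)).eq_zero
      cases n with
      | zero =>
        rw [zero_add, soc_one_regular, Submodule.mem_span_singleton] at hx
        obtain ⟨c, rfl⟩ := hx
        rw [map_smul, Bialgebra.counit_one, smul_eq_mul, mul_one] at hε
        rw [hε, zero_smul]
      | succ m =>
        have h1 : (1 : C) ∈ soc k C C (m + 1) := by
          apply soc_mono (show 1 ≤ m + 1 by omega)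
          rw [soc_one_regular]
          exact Submodule.mem_span_singleton_self _
        have h2 : ∀ f : C →ₗ[k] k, f 1 = 0 → ract f x = f x • 1 := by
          intro f hf
          rw [← sub_eq_zero]
          apply ih _ _ (key ih hx hn f)
          exact sub_mem ((mem_soc_succ_iff_ract _ _).mp hx f hf) (Submodule.smul_mem _ _ h1)
        apply h x _ hn
        apply eq_of_ract
        intro f
        have h3 := h2 (f - f 1 • CoalgebraStruct.counit (R := k)) (by simp)
        have h4 : ract (f - f 1 • CoalgebraStruct.counit (R := k)) x = ract f x - f 1 • x := by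
          have h5 : ∀ z : C ⊗[k] C, TensorProduct.lid k C
              ((f - f 1 • CoalgebraStruct.counit (R := k)).rTensor C z) =
              TensorProduct.lid k C (f.rTensor C z) - f 1 • TensorProduct.lid k C
                ((CoalgebraStruct.counit (R := k)).rTensor C z) := by
            intro z
            rw [LinearMap.rTensor_sub, LinearMap.rTensor_smul]
            simp
          have h6 : ∀ g : C →ₗ[k] k, ract g x =
              TensorProduct.lid k C (g.rTensor C (CoalgebraStruct.comul (R := k) x)) := fun _ => rfl
          rw [h6, h6, h5, Coalgebra.rTensor_counit_comul]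
          simp
        rw [h4, LinearMap.sub_apply, LinearMap.smul_apply, hε, smul_zero, sub_zero,
          sub_eq_iff_eq_add] at h3
        rw [h3]
        simp
  refine ⟨fun x hx => ?_⟩
  obtain ⟨n, hn⟩ := (isUnipotent_iff.mp hU) x
  exact main n x hn hx

theorem isReduced_of_prim (k : Type u) [Field k] [PerfectField k] (C : Type u) [CommRing C]
    [HopfAlgebra k C] [Algebra.FiniteType k C] (hU : HopfRep.IsUnipotent k C)
    (h : ∀ f : C, CoalgebraStruct.comul (R := k) f = f ⊗ₜ[k] 1 + 1 ⊗ₜ[k] f → IsNilpotent f → f = 0) :
    IsReduced C :=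
  isReduced_of_prim' k C hU h

end K922.UnipRed
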